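import Groth.Agent.DispLib.BaseChange
import Groth.Prelude.Def_Disp2
import Mathlib.RingTheory.TensorProduct.IncludeLeftSubRight

/-! # Faithfully flat descent for morphisms of 3n-displays -/

universe u v

set_option autoImplicit false

noncomputable section

namespace Groth.Agent.DispDesc

open WittVector W4c1extbt610

variable {p : ℕ} [Fact p.Prime]

theorem witt_map_injective {S R : Type u} [CommRing S] [CommRing R] (f : S →+* R) (hf : Function.Injective f) :
    Function.Injective (WittVector.map f : WittVector p S → WittVector p R) := fun x y h =>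
  WittVector.ext fun n => hf (by simpa [WittVector.map_coeff] using congrArg (fun z => WittVector.coeff z n) h)

theorem witt_mem_range {S R : Type u} [CommRing S] [CommRing R] [Algebra S R] [Module.FaithfullyFlat S R]
    {c : WittVector p R}
    (h : WittVector.map (Algebra.TensorProduct.includeLeftRingHom : R →+* TensorProduct S R R) c =
      WittVector.map ((Algebra.TensorProduct.includeRight : R →ₐ[S] TensorProduct S R R) : R →+* TensorProduct S R R) c) :
    ∃ a : WittVector p S, WittVector.map (algebraMap S R) a = c := by
  have h1 : ∀ n, c.coeff n ∈ Set.range (algebraMap S R) := fun n => by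
    rw [← Algebra.IsEffective.eqLocus_includeLeft_includeRight (Algebra.IsEffective.of_faithfullyFlat (R := S) (S := R))]
    have := congrArg (fun z => WittVector.coeff z n) h
    simp only [WittVector.map_coeff] at this
    exact this
  choose a ha using h1
  exact ⟨WittVector.mk p a, WittVector.ext fun n => by simp [WittVector.map_coeff, WittVector.coeff_mk, ha]⟩

variable {S R : Type u} [CommRing S] [CommRing R] (f : S →+* R)
variable {P : Type v} [AddCommGroup P] [Module (WittVector p S) P]

local notation "φ" => (WittVector.map f : WittVector p S →+* WittVector p R)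

theorem iota_injective (hf : Function.Injective f) {n : ℕ} (s : P →ₗ[WittVector p S] (Fin n → WittVector p S))
    (e : Fin n → P) (hse : ∀ x, ∑ i, s x i • e i = x) {x y : P}
    (h : Dieu.BC.tmul φ 1 x = Dieu.BC.tmul φ 1 y) : x = y := by
  have key : ∀ i, s x i = s y i := fun i => witt_map_injective f hf (by
    have := congrArg (DispLib.DispBC.coord f s i) h
    rwa [DispLib.DispBC.coord_tmul, DispLib.DispBC.coord_tmul, one_mul, one_mul] at this)
  rw [← hse x, ← hse y]
  exact Finset.sum_congr rfl fun i _ => by rw [key i]

theorem exists_frame (D : Display3n p S P) : ∃ (n : ℕ) (s : P →ₗ[WittVector p S] (Fin n → WittVector p S))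
    (e : Fin n → P), ∀ x, ∑ i, s x i • e i = x := by
  haveI := D.finite
  haveI := D.projective
  obtain ⟨n, g, hg⟩ := Module.Finite.exists_fin' (WittVector p S) P
  obtain ⟨s, hs⟩ := Module.projective_lifting_property g LinearMap.id hg
  refine ⟨n, s, fun i => g (Pi.single i 1), fun x => ?_⟩
  have h1 : g (s x) = x := LinearMap.congr_fun hs x
  conv_rhs => rw [← h1, pi_eq_sum_univ' (s x), map_sum]
  exact Finset.sum_congr rfl fun i _ => (map_smul g _ _).symm

/-- An element whose image lies in `Q_R` lies in `Q`. -/
theorem mem_Q_of_tmul (hf : Function.Injective f) (D : Display3n p S P)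
    (DR : Display3n p R (Dieu.BC (WittVector.map f : WittVector p S →+* WittVector p R) P))
    (hDR : Dieu.IsDispBaseChange f D DR) {x : P} (hx : Dieu.BC.tmul φ 1 x ∈ DR.Q) : x ∈ D.Q := by
  obtain ⟨n, s, e, hse⟩ := exists_frame D
  obtain ⟨L, T, hLT, hQ⟩ := D.exists_normal
  let π : P →ₗ[WittVector p S] P := T.projection L hLT.symm
  have hπ : ∀ y, π y ∈ T := fun y => Submodule.projection_apply_mem hLT.symm y
  have hπL : ∀ y ∈ L, π y = 0 := fun y hy => Submodule.projection_apply_of_mem_right hLT.symm hy
  have hπT : ∀ y ∈ T, π y = y := fun y hy => Submodule.projection_apply_of_mem_left hLT.symm hy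
  rw [hDR.Q_eq, LinearMap.mem_ker, Dieu.bcQuotMap_tmul, map_one] at hx
  have hcoord : ∀ i, WittVector.constantCoeff (s (π x) i) = (0 : S) := by
    intro i
    let lam : P →ₗ[WittVector p S] WittVector p S := (LinearMap.proj i).comp (s.comp π)
    have hlam : ∀ q ∈ D.Q, lam q ∈ IV p S := by
      intro q hq
      rw [hQ, Submodule.mem_sup] at hq
      obtain ⟨l, hl, t, ht, rfl⟩ := hq
      rw [map_add]
      refine add_mem ?_ ?_
      · show s (π l) i ∈ IV p S
        rw [hπL l hl, map_zero]
        exact zero_mem _
      · have := Submodule.mem_map_of_mem (f := lam) ht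
        rw [Submodule.map_smul''] at this
        have h3 := Submodule.smul_mono (le_refl (IV p S)) (le_top : _ ≤ (⊤ : Submodule (WittVector p S) (WittVector p S))) this
        rwa [smul_eq_mul, Ideal.mul_top] at h3
    let μ : P ⧸ D.Q →ₛₗ[(WittVector.constantCoeff : WittVector p R →+* R).comp φ] R :=
      D.Q.liftQ
        ({ toFun := fun y => f (WittVector.constantCoeff (lam y))
           map_add' := fun y z => by rw [map_add, map_add, map_add]
           map_smul' := fun a y => by
             rw [map_smul, smul_eq_mul, map_mul, map_mul, smul_eq_mul]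
             rfl } : P →ₛₗ[(WittVector.constantCoeff : WittVector p R →+* R).comp φ] R)
        (fun q hq => by
          show f (WittVector.constantCoeff (lam q)) = 0
          rw [(DispLib.mem_IV_iff _).1 (hlam q hq), map_zero])
    have := congrArg (Dieu.BC.lift _ μ) hx
    rw [Dieu.BC.lift_tmul, one_smul, map_zero] at this
    exact hf (by rw [map_zero]; exact this)
  have h1 : π x ∈ IV p S • (⊤ : Submodule (WittVector p S) P) := by
    rw [← hse (π x)]
    exact Submodule.sum_mem _ fun i _ => Submodule.smul_mem_smul ((DispLib.mem_IV_iff _).2 (hcoord i)) trivial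
  have h2 : π x ∈ IV p S • T := by
    have := Submodule.mem_map_of_mem (f := π) h1
    rw [hπT _ (hπ x), Submodule.map_smul''] at this
    exact Submodule.smul_mono le_rfl (by rintro _ ⟨y, -, rfl⟩; exact hπ y) this
  obtain ⟨l, hl, t, ht, rfl⟩ := Submodule.mem_sup.1 ((hLT.sup_eq_top.symm ▸ trivial) : x ∈ L ⊔ T)
  rw [map_add, hπL l hl, hπT t ht, zero_add] at h2
  rw [hQ]
  exact Submodule.add_mem_sup hl h2

end Groth.Agent.DispDesc
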