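import Groth.Agent.DispDesc.Basic

/-! # Descent of morphisms of 3n-displays: the main construction -/

universe u v

set_option autoImplicit false

noncomputable section

namespace Groth.Agent.DispDesc

open WittVector W4c1extbt610

variable {p : ℕ} [Fact p.Prime]

theorem coord_cast_push {S R T : Type u} [CommRing S] [CommRing R] [CommRing T] (f : S →+* R) (g : R →+* T)
    (f' : S →+* T)
    (e : (WittVector.map g : WittVector p R →+* WittVector p T).comp (WittVector.map f) = WittVector.map f')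
    {P : Type v} [AddCommGroup P] [Module (WittVector p S) P] {n : ℕ}
    (s : P →ₗ[WittVector p S] (Fin n → WittVector p S)) (i : Fin n)
    (z : Dieu.BC (WittVector.map f : WittVector p S →+* WittVector p R) P) :
    DispLib.DispBC.coord f' s i (Dieu.BC.castHom (P := P) e
        (Dieu.BC.push (WittVector.map f : WittVector p S →+* WittVector p R) (WittVector.map g) z)) =
      WittVector.map g (DispLib.DispBC.coord f s i z) := by
  induction z using Dieu.BC.induction_on with
  | zero => simp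
  | tmul b x =>
    rw [Dieu.BC.push_tmul, Dieu.BC.castHom_tmul, DispLib.DispBC.coord_tmul, DispLib.DispBC.coord_tmul, map_mul,
      ← e]
    rfl
  | add z₁ z₂ h₁ h₂ => simp only [map_add, h₁, h₂]

theorem main {S R : Type u} [CommRing S] [CommRing R] [Algebra S R] [Module.FaithfullyFlat S R]
    {P P' : Type v} [AddCommGroup P] [Module (WittVector p S) P] [AddCommGroup P'] [Module (WittVector p S) P']
    (D : Display3n p S P) (D' : Display3n p S P')
    (DR : Display3n p R (Dieu.BC (WittVector.map (algebraMap S R) : WittVector p S →+* WittVector p R) P))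
    (hDR : Dieu.IsDispBaseChange (algebraMap S R) D DR)
    (DR' : Display3n p R (Dieu.BC (WittVector.map (algebraMap S R) : WittVector p S →+* WittVector p R) P'))
    (hDR' : Dieu.IsDispBaseChange (algebraMap S R) D' DR')
    (χ : Dieu.BC (WittVector.map (algebraMap S R) : WittVector p S →+* WittVector p R) P →ₗ[WittVector p R]
      Dieu.BC (WittVector.map (algebraMap S R) : WittVector p S →+* WittVector p R) P')
    (hχ : IsHom DR DR' χ)
    (hrange : ∀ x : P, ∀ (n : ℕ) (s : P' →ₗ[WittVector p S] (Fin n → WittVector p S)) (i : Fin n),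
      WittVector.map (Algebra.TensorProduct.includeLeftRingHom : R →+* TensorProduct S R R)
        (DispLib.DispBC.coord (algebraMap S R) s i (χ (Dieu.BC.tmul _ 1 x))) =
      WittVector.map ((Algebra.TensorProduct.includeRight : R →ₐ[S] TensorProduct S R R) : R →+* TensorProduct S R R)
        (DispLib.DispBC.coord (algebraMap S R) s i (χ (Dieu.BC.tmul _ 1 x)))) :
    ∃! ψ : P →ₗ[WittVector p S] P', IsHom D D' ψ ∧
      Dieu.BC.map (WittVector.map (algebraMap S R) : WittVector p S →+* WittVector p R) ψ = χ := by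
  have hf : Function.Injective (algebraMap S R) := FaithfulSMul.algebraMap_injective S R
  obtain ⟨n, s, e, hse⟩ := exists_frame D'
  choose a ha using fun x i => witt_mem_range (hrange x n s i)
  let ψ₀ : P → P' := fun x => ∑ i, a x i • e i
  have hψ : ∀ x, Dieu.BC.tmul (WittVector.map (algebraMap S R)) 1 (ψ₀ x) = χ (Dieu.BC.tmul _ 1 x) := fun x => by
    rw [← DispLib.DispBC.sum_coord (algebraMap S R) s e hse (χ (Dieu.BC.tmul _ 1 x)), ← Dieu.BC.ι_apply, map_sum]
    refine Finset.sum_congr rfl fun i _ => ?_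
    rw [LinearMap.map_smulₛₗ, ha, Dieu.BC.ι_apply]
  have inj := fun {x y : P'} => iota_injective (algebraMap S R) hf s e hse (x := x) (y := y)
  let ψ : P →ₗ[WittVector p S] P' :=
    { toFun := ψ₀
      map_add' := fun x y => inj (by rw [hψ, Dieu.BC.tmul_add, map_add, Dieu.BC.tmul_add, hψ, hψ])
      map_smul' := fun c x => inj (by
        rw [RingHom.id_apply, hψ, ← Dieu.BC.tmul_apply_eq, Dieu.BC.tmul_eq_smul_tmul_one, map_smul, ← hψ,
          Dieu.BC.smul_tmul, mul_one, Dieu.BC.tmul_apply_eq]) }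
  have hmap : Dieu.BC.map (WittVector.map (algebraMap S R) : WittVector p S →+* WittVector p R) ψ = χ :=
    Dieu.BC.ext _ fun x => by rw [Dieu.BC.map_tmul]; exact hψ x
  have hQR : ∀ q ∈ D.Q, Dieu.BC.tmul (WittVector.map (algebraMap S R)) 1 q ∈ DR.Q := fun q hq => by
    rw [hDR.Q_eq, LinearMap.mem_ker, Dieu.bcQuotMap_tmul, Submodule.mkQ_apply,
      (Submodule.Quotient.mk_eq_zero _).2 hq, Dieu.BC.tmul_zero]
  have hQ : ∀ q, q ∈ D.Q → ψ q ∈ D'.Q := fun q hq =>
    mem_Q_of_tmul (algebraMap S R) hf D' DR' hDR' (show Dieu.BC.tmul _ 1 (ψ₀ q) ∈ DR'.Q by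
      rw [hψ]; exact hχ.mapsTo _ (hQR q hq))
  refine ⟨ψ, ⟨⟨hQ, fun x => inj ?_, fun q => inj ?_⟩, hmap⟩, fun ψ' hψ' => ?_⟩
  · show Dieu.BC.tmul _ 1 (ψ₀ (D.F x)) = Dieu.BC.tmul _ 1 (D'.F (ψ₀ x))
    have h1 : Dieu.BC.tmul (WittVector.map (algebraMap S R)) 1 (D.F x) = DR.F (Dieu.BC.tmul _ 1 x) := by
      rw [hDR.F_tmul, map_one]
    have h2 : Dieu.BC.tmul (WittVector.map (algebraMap S R)) 1 (D'.F (ψ₀ x)) = DR'.F (Dieu.BC.tmul _ 1 (ψ₀ x)) := by
      rw [hDR'.F_tmul, map_one]
    rw [hψ, h1, hχ.comm_F, h2, hψ]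
  · show Dieu.BC.tmul _ 1 (ψ₀ (D.Vinv q)) = Dieu.BC.tmul _ 1 (D'.Vinv ⟨ψ q, hQ q q.2⟩)
    have hq' : Dieu.BC.tmul (WittVector.map (algebraMap S R)) 1 (ψ q) ∈ DR'.Q := by
      show Dieu.BC.tmul _ 1 (ψ₀ q) ∈ DR'.Q
      rw [hψ]; exact hχ.mapsTo _ (hQR q q.2)
    have h1 := hDR.Vinv_tmul 1 q (hQR q q.2)
    have h2 := hDR'.Vinv_tmul 1 ⟨ψ q, hQ q q.2⟩ hq'
    rw [map_one] at h1 h2
    rw [hψ, ← h1, hχ.comm_Vinv, ← h2]
    exact congrArg DR'.Vinv (Subtype.ext (hψ q).symm)
  · refine LinearMap.ext fun x => inj ?_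
    have := LinearMap.congr_fun (hψ'.2.trans hmap.symm) (Dieu.BC.tmul _ 1 x)
    rwa [Dieu.BC.map_tmul, Dieu.BC.map_tmul] at this

theorem coord_condition {S R : Type u} [CommRing S] [CommRing R] [Algebra S R]
    {P P' : Type v} [AddCommGroup P] [Module (WittVector p S) P] [AddCommGroup P'] [Module (WittVector p S) P']
    (ι : R →+* TensorProduct S R R)
    (e : (WittVector.map ι : WittVector p R →+* WittVector p (TensorProduct S R R)).comp
        (WittVector.map (algebraMap S R)) = WittVector.map (algebraMap S (TensorProduct S R R)))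
    (χ : Dieu.BC (WittVector.map (algebraMap S R) : WittVector p S →+* WittVector p R) P →ₗ[WittVector p R]
      Dieu.BC (WittVector.map (algebraMap S R) : WittVector p S →+* WittVector p R) P')
    (x : P) {n : ℕ} (s : P' →ₗ[WittVector p S] (Fin n → WittVector p S)) (i : Fin n) :
    DispLib.DispBC.coord (algebraMap S (TensorProduct S R R)) s i
        ((Dieu.BC.castHom (P := P') e).comp (Dieu.BC.lift (WittVector.map ι)
          (Dieu.BC.push (WittVector.map (algebraMap S R) : WittVector p S →+* WittVector p R) (WittVector.map ι)))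
          (Dieu.BC.map (WittVector.map ι) χ (Dieu.BC.tmul _ 1 (Dieu.BC.tmul _ 1 x)))) =
      WittVector.map ι (DispLib.DispBC.coord (algebraMap S R) s i (χ (Dieu.BC.tmul _ 1 x))) := by
  rw [Dieu.BC.map_tmul, LinearMap.comp_apply, Dieu.BC.lift_tmul, one_smul, coord_cast_push]

theorem input_condition {S R : Type u} [CommRing S] [CommRing R] [Algebra S R]
    {P : Type v} [AddCommGroup P] [Module (WittVector p S) P] (ι : R →+* TensorProduct S R R)
    (e : (WittVector.map ι : WittVector p R →+* WittVector p (TensorProduct S R R)).comp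
        (WittVector.map (algebraMap S R)) = WittVector.map (algebraMap S (TensorProduct S R R))) (x : P) :
    (Dieu.BC.castHom (P := P) e).comp (Dieu.BC.lift (WittVector.map ι)
        (Dieu.BC.push (WittVector.map (algebraMap S R) : WittVector p S →+* WittVector p R) (WittVector.map ι)))
        (Dieu.BC.tmul _ 1 (Dieu.BC.tmul _ 1 x)) =
      Dieu.BC.tmul (WittVector.map (algebraMap S (TensorProduct S R R))) 1 x := by
  rw [LinearMap.comp_apply, Dieu.BC.lift_tmul, one_smul, Dieu.BC.push_tmul, map_one, Dieu.BC.castHom_tmul]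

end Groth.Agent.DispDesc
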